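import Groth.Agent.ResProp.K56.DMDefs
import Groth.Agent.ResProp.K56.Main
import Groth.Agent.AlgSt.K600.EtChart

/-!
# The category of affine objects of a Deligne-Mumford stack with affine diagonal

`good` : the category of affine objects is good; `exists_chart` : an affine étale chart with étale products.
-/

set_option autoImplicit false
set_option linter.style.haveILetI false
set_option backward.isDefEq.respectTransparency false
set_option backward.isDefEq.respectTransparency.types false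

universe w'' v'' w' v' w v u

open CategoryTheory CategoryTheory.Limits AlgebraicGeometry Opposite StMod
open K784.PM K784.Geo K741.RP K741 K734.Fib K606.YonSec

namespace K276.DMGeo

section Good

variable {S : Scheme.{u}} {𝒳 : BasedCategory.{v, w} (Over S)}

/-- closed immersions exist and arrows are cartesian -/
theorem good (h𝒳 : FibCat.IsFibGrpd 𝒳.p) : K56.DM.Good (fa 𝒳) where
  quot y I := by
    let X : Scheme.{u} := sch 𝒳 y.obj
    haveI hX : IsAffine X := y.property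
    let R : CommRingCat.{u} := Γ(X, ⊤)
    let I' : Ideal R := I
    let f : Spec (CommRingCat.of (R ⧸ I')) ⟶ X := Spec.map (CommRingCat.ofHom (Ideal.Quotient.mk I')) ≫ X.isoSpec.inv
    obtain ⟨y', φ, e, he⟩ := K906.Grpd.exists_lift_sch h𝒳 y.obj f
    have hA : IsAffine (sch 𝒳 y') := .of_isIso e.hom
    have h1 : (bmap 𝒳 φ).appTop = (X.isoSpec.inv).appTop ≫
        (Spec.map (CommRingCat.ofHom (Ideal.Quotient.mk I'))).appTop ≫ e.hom.appTop := by
      rw [he, Scheme.Hom.comp_appTop, Scheme.Hom.comp_appTop, Category.assoc]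
    have h0 : (X.isoSpec.inv).appTop = (Scheme.ΓSpecIso R).inv := by
      rw [← cancel_mono X.isoSpec.hom.appTop, ← Scheme.Hom.comp_appTop, Iso.hom_inv_id, Scheme.isoSpec_hom,
        Scheme.toSpecΓ_appTop, Scheme.Hom.id_appTop, Iso.inv_hom_id]
    have h2 : (bmap 𝒳 φ).appTop = CommRingCat.ofHom (Ideal.Quotient.mk I') ≫
        ((Scheme.ΓSpecIso (CommRingCat.of (R ⧸ I'))).inv ≫ e.hom.appTop) := by
      rw [h1, h0, ← Category.assoc, ← Scheme.ΓSpecIso_inv_naturality, Category.assoc]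
    have h3 : Function.Bijective ((Scheme.ΓSpecIso (CommRingCat.of (R ⧸ I'))).inv ≫ e.hom.appTop).hom :=
      ConcreteCategory.bijective_of_isIso ((Scheme.ΓSpecIso (CommRingCat.of (R ⧸ I'))).inv ≫ e.hom.appTop)
    have h4 : ∀ r : R, (bmap 𝒳 φ).appTop.hom r =
        ((Scheme.ΓSpecIso (CommRingCat.of (R ⧸ I'))).inv ≫ e.hom.appTop).hom (Ideal.Quotient.mk I' r) := fun r => by
      rw [h2]
      rfl
    refine ⟨⟨y', hA⟩, ObjectProperty.homMk φ, fun t => ?_, Ideal.ext fun r => ?_⟩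
    · obtain ⟨s, hs⟩ := h3.2 t
      obtain ⟨r, rfl⟩ := Ideal.Quotient.mk_surjective s
      exact ⟨r, (h4 r).trans hs⟩
    · rw [RingHom.mem_ker]
      refine Iff.trans ?_ (Ideal.Quotient.eq_zero_iff_mem (I := I') (a := r))
      constructor
      · intro h
        exact h3.1 (((h4 r).symm.trans h).trans (map_zero _).symm)
      · intro h
        refine (h4 r).trans ?_
        rw [h, map_zero]
  ext {x y z} j k k' h1 h2 := by
    refine ObjectProperty.hom_ext _ (K906.Grpd.hom_ext_sch h𝒳 j.hom ?_ (congrArg (fun t => t.hom) h1))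
    have : IsAffine (sch 𝒳 y.obj) := y.property
    refine ext_of_isAffine ?_
    exact CommRingCat.hom_ext h2

end Good

section Chart

variable {S : Scheme.{u}} {𝒳 : AlgSt.Cat S}

/-- products with an affine étale chart -/
theorem exists_prod_etale (h𝒳 : FibCat.IsFibGrpd 𝒳.p) {U : Over S} {x : FibCat.overCat U ⥤ᵇ 𝒳}
    (hx : AlgSt.RepByAlgSpWith (AlgSp.IsAffineMor ⊓ AlgSp.LocP @Etale) x) (ξ : 𝒳.obj) (hξ : IsAffine (sch 𝒳 ξ)) :
    ∃ (χ : 𝒳.obj) (a : χ ⟶ ξ) (b : χ ⟶ x.obj (one U)), IsAffine (sch 𝒳 χ) ∧ Etale (bmap 𝒳 a) ∧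
      ∀ (χ' : 𝒳.obj) (a' : χ' ⟶ ξ) (b' : χ' ⟶ x.obj (one U)), ∃! c : χ' ⟶ χ, c ≫ a = a' ∧ c ≫ b = b' := by
  obtain ⟨F, π, R, ⟨hA, hF⟩, hπ⟩ := K906.Span.exists_spanRep_atlas h𝒳 hx ξ
  obtain ⟨W, i, fst, hpb, hW⟩ := hA (Z := 𝒳.p.obj ξ) hξ (𝟙 _)
  have : IsIso fst := hpb.isIso_fst_of_isIso
  obtain ⟨χ, a, b, e, hs⟩ := R.surj (sec fst)
  subst e
  have hs' : R.sec a b = sec fst := by simpa using hs
  have h1 : K606.YonSec.ofSec (R.sec a b) = fst := by rw [hs', ofSec_sec]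
  have h2 : fst ≫ π = (AlgSp.yon S).map (𝒳.p.map a) := by
    rw [← h1, K606.YonSec.ofSec_comp, hπ, ofSec_up]
  have hfr : (AlgSp.LocP (S := S) @Etale).RespectsIso := K735.Top.locP_respectsIso _
  refine ⟨χ, a, b, hW, locP_yon_left ?_, fun χ' a' b' => ?_⟩
  · rw [← h2]
    exact (MorphismProperty.cancel_left_of_respectsIso (AlgSp.LocP @Etale) fst π).2 hF
  · obtain ⟨g, hg⟩ := (AlgSp.yon S).map_surjective (K606.YonSec.ofSec (R.sec a' b') ≫ inv fst)
    have h3 : F.obj.obj.map g.op (R.sec a b) = R.sec a' b' := by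
      apply K606.YonSec.ofSec_injective
      rw [← map_comp_ofSec, h1, hg, Category.assoc, IsIso.inv_hom_id, Category.comp_id]
    obtain ⟨c, hc, h4, h5⟩ := R.full a b a' b' g h3
    refine ⟨c, ⟨h4, h5⟩, ?_⟩
    rintro c' ⟨h6, h7⟩
    refine K906.Grpd.hom_ext h𝒳 a ?_ (h6.trans h4.symm)
    apply (AlgSp.yon S).map_injective
    rw [← cancel_mono fst, ← h1, map_comp_ofSec, map_comp_ofSec, R.map, R.map, h6, h7, h4, h5]

/-- the products of `x₀` with itself are étale -/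
theorem etale_π (h𝒳 : FibCat.IsFibGrpd 𝒳.p) {U : Over S} {x : FibCat.overCat U ⥤ᵇ 𝒳}
    (hx : AlgSt.RepByAlgSpWith (AlgSp.IsAffineMor ⊓ AlgSp.LocP @Etale) x) (hA : IsAffine (sch 𝒳 (x.obj (one U))))
    {x₀ : (Aff 𝒳).obj} (h₀ : x₀ = ⟨x.obj (one U), hA⟩) (D : PD (fa 𝒳) x₀) (z : (Aff 𝒳).obj) :
    (rg (fa 𝒳) (D.π z)).Etale := by
  subst h₀
  obtain ⟨χ, a, b, h1, h2, h3⟩ := exists_prod_etale h𝒳 hx z.obj z.property
  obtain ⟨c, ⟨hc1, hc2⟩, -⟩ := h3 (D.w z).obj (D.π z).hom (D.b z).hom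
  let X : (Aff 𝒳).obj := ⟨χ, h1⟩
  let c' : D.w z ⟶ X := ObjectProperty.homMk c
  let a' : X ⟶ z := ObjectProperty.homMk a
  let b' : X ⟶ ⟨x.obj (one U), hA⟩ := ObjectProperty.homMk b
  let l : X ⟶ D.w z := D.lift a' b'
  have ha : l ≫ D.π z = a' := D.lift_π a' b'
  have hb : l ≫ D.b z = b' := D.lift_b a' b'
  have hca : c' ≫ a' = D.π z := ObjectProperty.hom_ext _ hc1
  have hcb : c' ≫ b' = D.b z := ObjectProperty.hom_ext _ hc2
  have e1 : c' ≫ l = 𝟙 _ := D.ext (by rw [Category.assoc, ha, hca, Category.id_comp])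
    (by rw [Category.assoc, hb, hcb, Category.id_comp])
  have e2 : l ≫ c' = 𝟙 _ := ObjectProperty.hom_ext _ ((h3 χ a b).unique
    ⟨congrArg (fun t => t.hom) (show (l ≫ c') ≫ a' = a' by rw [Category.assoc, hca, ha]),
      congrArg (fun t => t.hom) (show (l ≫ c') ≫ b' = b' by rw [Category.assoc, hcb, hb])⟩
    ⟨Category.id_comp _, Category.id_comp _⟩)
  have hI : IsIso c' := ⟨l, e1, e2⟩
  have h4 : (rg (fa 𝒳) a').Etale := (HasRingHomProperty.iff_of_isAffine (P := @Etale) (f := bmap 𝒳 a)).1 h2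
  have h5 : Function.Bijective (rg (fa 𝒳) c') := by
    haveI : IsIso ((fa 𝒳).map c'.op) := inferInstance
    exact ConcreteCategory.bijective_of_isIso ((fa 𝒳).map c'.op)
  rw [← hca, rg_comp]
  exact RingHom.Etale.stableUnderComposition _ _ h4 (RingHom.Etale.of_bijective h5)

/-- an affine chart of a quasi-compact Deligne-Mumford stack with affine diagonal -/
theorem exists_chart [IsAffine S] {K : Precoverage Scheme.{u}} (hDM : AlgSt.IsDM K 𝒳)
    (hqc : AlgSt.IsQuasiCompact 𝒳) (hΔ : AlgSt.RepByAlgSpWith AlgSp.IsAffineMor (FibCat.diag (FibCat.toSelf 𝒳))) :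
    ∃ x₀ : (Aff 𝒳).obj, HasProd x₀.obj ∧ ∀ D : PD (fa 𝒳) x₀, (rg (fa 𝒳) (D.π x₀)).Etale := by
  have h𝒳 : FibCat.IsFibGrpd 𝒳.p := hDM.1.isStack.1
  obtain ⟨U, x, hU, hE, hs⟩ := K600.EtChart.exists_chart hDM hqc
  have e₀ : sch 𝒳 (x.obj (one U)) = U.left := congrArg (fun T : Over S => T.left) (x.w_obj (one U))
  have hA : IsAffine (sch 𝒳 (x.obj (one U))) := by rw [e₀]; exact hU
  haveI : (AlgSp.LocP (S := S) @Etale).RespectsIso := K735.Top.locP_respectsIso _
  have h1 : AlgSt.RepByAlgSpWith (AlgSp.LocP @Etale) x :=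
    K740.SpIso.repByAlgSpWith_imp hE fun F U q hq => K597.locP_etale_of_isEtaleMor hq
  exact ⟨⟨x.obj (one U), hA⟩, K56.RP.hasProd_chart h𝒳 hΔ x (K600.EtChart.flat_of_etale hE) hs,
    fun D => etale_π h𝒳 (repByAlgSpWith_inf h𝒳 (K56.RP.affine_of_affine h𝒳 hΔ hU x) h1) hA rfl D _⟩

end Chart

end K276.DMGeo
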